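import Groth.Agent.AlgSpGrp.Thick
import Groth.Agent.RedImage.Proper
import Groth.Agent.GrpSchLib.LargestNormalSep
import Groth.Agent.SrcDescent.SmoothFppf
import Mathlib.AlgebraicGeometry.ZariskisMainTheorem

/-!
# Quotients by normal subgroups over artinian local rings
-/

set_option autoImplicit false
set_option backward.isDefEq.respectTransparency false
set_option backward.isDefEq.respectTransparency.types false
set_option linter.style.haveILetI false

universe u

open CategoryTheory Limits AlgebraicGeometry MonoidalCategory CartesianMonoidalCategory MonObj GrpObj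
open AlgSp Groth.Agent.GrpSchLib
open scoped MonObj

namespace Groth.Agent.AlgSpGrp

variable {A : Type u} [CommRing A] [IsArtinianRing A] [IsLocalRing A]
  {F G : Over (Spec (CommRingCat.of A))} [GrpObj F] [GrpObj G]

/-- A quasi-compact monomorphism of groups over an artinian local ring is a closed immersion. -/
theorem isClosedImmersion_of_mono [LocallyOfFiniteType F.hom] [LocallyOfFiniteType G.hom] (u : F ⟶ G)
    [IsMonHom u] [Mono u] [QuasiCompact u.left] : IsClosedImmersion u.left := by
  haveI : Mono u.left := inferInstanceAs (Mono ((Over.forget _).map u))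
  let K := pullback u.left η[G].left
  let s : Spec (CommRingCat.of A) ⟶ K := pullback.lift η[F].left (𝟙 _) (by
    rw [← Over.comp_left, IsMonHom.one_hom]; exact (Category.id_comp _).symm)
  have h1 : s ≫ pullback.snd u.left η[G].left = 𝟙 _ := pullback.lift_snd _ _ _
  haveI : IsSplitEpi (pullback.snd u.left η[G].left) := IsSplitEpi.mk' ⟨s, h1⟩
  haveI : IsIso (pullback.snd u.left η[G].left) := isIso_of_mono_of_isSplitEpi _
  haveI : IsProper (pullback.snd u.left η[G].left) := inferInstance
  haveI := RedImage.isProper_of_isProper_ker_artinian u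
  exact (IsClosedImmersion.iff_isProper_and_mono _).2 ⟨‹_›, ‹_›⟩

/-- The quotient of a group over an artinian local ring by a flat closed normal subgroup. -/
theorem exists_quot_artinian [LocallyOfFiniteType F.hom] [Flat F.hom] (u : F ⟶ G) [IsMonHom u]
    [IsClosedImmersion u.left] (hN : AlgGrp.IsNormalHom u) :
    ∃ (Q : Over (Spec (CommRingCat.of A))) (_ : GrpObj Q) (q : G ⟶ Q), IsMonHom q ∧ Surjective q.left ∧
      Flat q.left ∧ LocallyOfFinitePresentation q.left ∧ IsSeparated Q.hom ∧ AlgGrp.IsKernel u q ∧
      RedSub.IsQuotient u q := by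
  haveI : LocallyOfFinitePresentation F.hom := LocallyOfFinitePresentation.iff_locallyOfFiniteType.2 ‹_›
  obtain ⟨X, p, hp, hX, hs, sq⟩ := exists_space u
  let i := clPt A
  haveI : LocallyOfFiniteType ((Over.pullback i).obj F).hom :=
    inferInstanceAs (LocallyOfFiniteType (pullback.snd F.hom i))
  haveI : IsClosedImmersion ((Over.pullback i).map u).left :=
    MorphismProperty.of_isPullback (P := @IsClosedImmersion) (HomFibre.map_isPullback u i) ‹_›
  obtain ⟨Q₀, _, q₀, -, -, -, -, -, -, hq₀⟩ :=
    exists_quot_field ((Over.pullback i).map u) (LargestNormalSep.isNormalHom_map i u hN)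
  exact exists_group_of_isRepresentable u hN p hs sq (isRepresentable_of_thick u p hX sq i q₀ hq₀)

/-- Flatness and smoothness of a quotient by a flat subgroup. -/
theorem flat_smooth_of_isQuotient {S : Scheme.{u}} {F G Q : Over S} [GrpObj F] [GrpObj G] (u : F ⟶ G) [IsMonHom u]
    [Mono u] (q : G ⟶ Q) (hq : RedSub.IsQuotient u q) :
    (Flat G.hom → Flat Q.hom) ∧ (Smooth G.hom → Smooth Q.hom) := by
  obtain ⟨_, _, _, sq⟩ := hq
  refine ⟨fun h => ?_, fun h => ?_⟩
  · haveI : Flat (q.left ≫ Q.hom) := by rw [Over.w q]; exact h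
    exact SrcDescent.flat_of_fppf_comp q.left Q.hom
  · haveI : Smooth (q.left ≫ Q.hom) := by rw [Over.w q]; exact h
    exact SrcDescent.smooth_of_fppf_comp q.left Q.hom

end Groth.Agent.AlgSpGrp
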