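import Groth.Agent.AlgSpGrp.Sheaf
import Groth.Agent.GrpScheme13.Main
import Groth.Agent.S5236
import Groth.Prelude.Def_RedSub

/-!
# Scheme quotients of group schemes by closed normal subgroups
-/

set_option autoImplicit false
set_option backward.isDefEq.respectTransparency false
set_option backward.isDefEq.respectTransparency.types false
set_option linter.style.haveILetI false

universe u

open CategoryTheory Limits AlgebraicGeometry MonoidalCategory CartesianMonoidalCategory MonObj GrpObj
open AlgSp Groth.Agent.AlgSpLib Groth.Agent.AlgSpPts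
open Groth.Agent.GrpSchLib.GenQuot
open scoped MonObj

namespace Groth.Agent.AlgSpGrp

variable {S : Scheme.{u}} {U R : Over S} {s t : R ⟶ U}

/-- Quotients by relations with closed graph are separated. -/
theorem isSeparatedSp_quot {X : Sp S} (hX : IsAlgSpace X) (p : (yon S).obj U ⟶ X)
    [Sheaf.IsLocallySurjective p] (sq : IsPullback ((yon S).map t) ((yon S).map s) p p)
    (hq : IsClosedImmersion (prod.lift t s : R ⟶ U ⨯ U).left) : IsSeparatedSp X := by
  let b : (yon S).obj (U ⨯ U) ⟶ X ⨯ X :=
    prod.lift ((yon S).map (prod.fst : U ⨯ U ⟶ U) ≫ p) ((yon S).map (prod.snd : U ⨯ U ⟶ U) ≫ p)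
  have : Sheaf.IsLocallySurjective b := isLocallySurjective_of_lifts b fun T g => by
    obtain ⟨T1, k1, x1, hk1, hx1⟩ := AlgSpDec.exists_fppf_lift_of_locallySurjective p (g ≫ prod.fst)
    obtain ⟨T2, k2, x2, hk2, hx2⟩ :=
      AlgSpDec.exists_fppf_lift_of_locallySurjective p ((yon S).map k1 ≫ g ≫ prod.snd)
    obtain ⟨x1, rfl⟩ := (yon S).map_surjective x1
    obtain ⟨x2, rfl⟩ := (yon S).map_surjective x2
    refine ⟨T2, k2 ≫ k1, (yon S).map (prod.lift (k2 ≫ x1) x2), MorphismProperty.comp_mem _ _ _ hk2 hk1, ?_⟩
    apply Limits.prod.hom_ext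
    · rw [Category.assoc, prod.lift_fst, ← Functor.map_comp_assoc, prod.lift_fst, Functor.map_comp,
        Category.assoc, hx1, Functor.map_comp, Category.assoc, Category.assoc]
    · rw [Category.assoc, prod.lift_snd, ← Functor.map_comp_assoc, prod.lift_snd, hx2, Functor.map_comp,
        Category.assoc, Category.assoc]
  have hsq : IsPullback ((yon S).map t ≫ p) ((yon S).map (prod.lift t s : R ⟶ U ⨯ U)) (Limits.diag X) b := by
    refine ⟨⟨?_⟩, ⟨PullbackCone.IsLimit.mk _
      (fun c => sq.lift (c.snd ≫ (yon S).map prod.fst) (c.snd ≫ (yon S).map prod.snd) ?_)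
      (fun c => ?_) (fun c => ?_) (fun c m h₁ h₂ => ?_)⟩⟩
    · apply Limits.prod.hom_ext
      · simp only [b, Category.assoc, prod.lift_fst, Limits.prod.lift_fst, Category.comp_id,
          ← Functor.map_comp_assoc]
      · simp only [b, Category.assoc, prod.lift_snd, Limits.prod.lift_snd, Category.comp_id,
          ← Functor.map_comp_assoc]
        exact sq.w
    · have h1 := congrArg (· ≫ prod.fst) c.condition
      have h2 := congrArg (· ≫ prod.snd) c.condition
      simp only [b, Category.assoc, prod.lift_fst, prod.lift_snd, Limits.prod.lift_fst, Limits.prod.lift_snd,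
        Category.comp_id] at h1 h2
      rw [Category.assoc, Category.assoc, ← h1, h2]
    · rw [sq.lift_fst_assoc, Category.assoc]
      have h1 := congrArg (· ≫ prod.fst) c.condition
      simp only [b, Category.assoc, prod.lift_fst, Limits.prod.lift_fst, Category.comp_id] at h1
      exact h1.symm
    · refine yon_prod_ext _ _ ?_ ?_
      · refine (Category.assoc _ _ _).trans ?_
        refine Eq.trans (congrArg (_ ≫ ·) ?_) (sq.lift_fst _ _ _)
        rw [← Functor.map_comp, prod.lift_fst]
      · refine (Category.assoc _ _ _).trans ?_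
        refine Eq.trans (congrArg (_ ≫ ·) ?_) (sq.lift_snd _ _ _)
        rw [← Functor.map_comp, prod.lift_snd]
    · apply sq.hom_ext
      · rw [sq.lift_fst, ← h₂, Category.assoc, ← Functor.map_comp, prod.lift_fst]
      · rw [sq.lift_snd, ← h₂, Category.assoc, ← Functor.map_comp, prod.lift_snd]
  have := isLocalAtTarget_fppf (@IsClosedImmersion : MorphismProperty Scheme.{u})
  exact repWith_of_locallySurjective hX.diag b hsq @IsClosedImmersion ((repWith_yon_map_iff _ _).2 hq)

variable {G N : Over S} [GrpObj G] [GrpObj N] (h : N ⟶ G) [IsMonHom h]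

/-- The graph of the coset relation of a closed subgroup is closed. -/
theorem isClosedImmersion_graph [IsClosedImmersion h.left] :
    IsClosedImmersion (prod.lift (act h) (fst G N) : G ⊗ N ⟶ G ⨯ G).left := by
  haveI : Mono h.left := inferInstance
  haveI : Mono h := Over.mono_of_mono_left h
  let d : G ⨯ G ⟶ G := (prod.snd : G ⨯ G ⟶ G)⁻¹ * prod.fst
  have hd : ∀ {T : Over S} (l : T ⟶ G ⨯ G), l ≫ d = (l ≫ prod.snd)⁻¹ * (l ≫ prod.fst) := fun l => by
    rw [MonObj.comp_mul, GrpObj.comp_inv]
  have hsq : IsPullback (prod.lift (act h) (fst G N) : G ⊗ N ⟶ G ⨯ G) (snd G N) d h := by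
    refine ⟨⟨?_⟩, ⟨PullbackCone.IsLimit.mk _ (fun c => lift (c.fst ≫ prod.snd) c.snd) (fun c => ?_) (fun c => ?_)
      (fun c m h₁ h₂ => ?_)⟩⟩
    · rw [hd, prod.lift_snd, prod.lift_fst]
      have e := comp_act (h := h) (𝟙 (G ⊗ N))
      rw [Category.id_comp, Category.id_comp, Category.id_comp] at e
      rw [e, inv_mul_cancel_left]
    · have e := c.condition
      rw [hd] at e
      apply Limits.prod.hom_ext
      · rw [Category.assoc, prod.lift_fst, comp_act, lift_fst, lift_snd_assoc, ← e, mul_inv_cancel_left]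
      · rw [Category.assoc, prod.lift_snd, lift_fst]
    · exact lift_snd _ _
    · apply CartesianMonoidalCategory.hom_ext
      · rw [lift_fst, ← h₁, Category.assoc, prod.lift_snd]
      · rw [lift_snd, h₂]
  exact MorphismProperty.of_isPullback (P := @IsClosedImmersion) (hsq.map (Over.forget S)).flip ‹_›

variable [Flat N.hom] [LocallyOfFinitePresentation N.hom]

/-- The quotient sheaf by a closed flat subgroup is a separated algebraic space. -/
theorem exists_space [IsClosedImmersion h.left] :
    ∃ (X : Sp S) (p : (yon S).obj G ⟶ X), Sheaf.IsLocallySurjective p ∧ IsAlgSpace X ∧ IsSeparatedSp X ∧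
      IsPullback ((yon S).map (act h)) ((yon S).map (fst G N)) p p := by
  haveI : Mono h.left := inferInstance
  haveI : Mono h := Over.mono_of_mono_left h
  have := flat_fst (G := G) (N := N)
  have := lfp_fst (G := G) (N := N)
  have := flat_act h
  have := lfp_act h
  have hE := isEqvRel h
  have := AlgSpDec.isLocallySurjective_quotMap (fst G N) (act h)
  have sq := isPullback_quotMap hE
  have hA := AlgSpDec.isAlgSpace_quot hE
  exact ⟨_, _, this, hA, isSeparatedSp_quot hA _ sq (isClosedImmersion_graph h), sq⟩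

/-- A representable quotient sheaf gives the quotient scheme. -/
theorem exists_quot_of_isRepresentable {X : Sp S} (p : (yon S).obj G ⟶ X) [Sheaf.IsLocallySurjective p]
    (sq : IsPullback ((yon S).map (act h)) ((yon S).map (fst G N)) p p) (hrep : X.obj.IsRepresentable) :
    ∃ (Q : Over S) (q : G ⟶ Q) (e : (yon S).obj Q ≅ X), (yon S).map q ≫ e.hom = p ∧ RedSub.IsQuotient h q := by
  obtain ⟨Q, ⟨eQ⟩⟩ := hrep.has_representation
  let e : (yon S).obj Q ≅ X := isoOfRepresentableBy eQ
  have := flat_fst (G := G) (N := N)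
  have := lfp_fst (G := G) (N := N)
  have hr : Representable p := AlgSpDec.representable_of_kernelPair sq
  have := isLocalAtTarget_fppf (@Flat : MorphismProperty Scheme.{u})
  have := isLocalAtTarget_fppf (@LocallyOfFinitePresentation : MorphismProperty Scheme.{u})
  have := isLocalAtTarget_fppf (@Surjective : MorphismProperty Scheme.{u})
  have hss : Surjective (fst G N).left := ⟨fun x => by
    refine ⟨(lift (𝟙 G) 1 : G ⟶ G ⊗ N).left x, ?_⟩
    rw [← Scheme.Hom.comp_apply, ← Over.comp_left, lift_fst]; rfl⟩
  have hpf := repWith_of_locallySurjective hr p sq @Flat ((repWith_yon_map_iff _ _).2 ‹Flat (fst G N).left›)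
  have hpl := repWith_of_locallySurjective hr p sq @LocallyOfFinitePresentation
    ((repWith_yon_map_iff _ _).2 ‹LocallyOfFinitePresentation (fst G N).left›)
  have hps := repWith_of_locallySurjective hr p sq @Surjective ((repWith_yon_map_iff _ _).2 hss)
  obtain ⟨q, hq⟩ := (yon S).map_surjective (p ≫ e.inv)
  have sqq : IsPullback ((yon _).map (act h)) ((yon _).map (fst G N)) ((yon _).map q) ((yon _).map q) := by
    refine sq.of_iso (Iso.refl _) (Iso.refl _) (Iso.refl _) e.symm (by simp) (by simp) ?_ ?_ <;> simp [hq]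
  have hwq : act h ≫ q = fst G N ≫ q :=
    (yon S).map_injective (by rw [Functor.map_comp, Functor.map_comp]; exact sqq.w)
  refine ⟨Q, q, e, by rw [hq, Category.assoc, Iso.inv_hom_id, Category.comp_id], ?_, ?_, ?_,
    (IsPullback.of_map _ hwq sqq).flip⟩
  · exact (repWith_yon_map_iff _ _).1 (hq ▸ MorphismProperty.RespectsIso.postcomp _ _ _ hps)
  · exact (repWith_yon_map_iff _ _).1 (hq ▸ MorphismProperty.RespectsIso.postcomp _ _ _ hpf)
  · exact (repWith_yon_map_iff _ _).1 (hq ▸ MorphismProperty.RespectsIso.postcomp _ _ _ hpl)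

/-- Group structure, separatedness and the kernel of a representable quotient by a closed normal subgroup. -/
theorem exists_group_of_isRepresentable [IsClosedImmersion h.left] (hN : AlgGrp.IsNormalHom h) {X : Sp S}
    (p : (yon S).obj G ⟶ X) [Sheaf.IsLocallySurjective p] (hs : IsSeparatedSp X)
    (sq : IsPullback ((yon S).map (act h)) ((yon S).map (fst G N)) p p) (hrep : X.obj.IsRepresentable) :
    ∃ (Q : Over S) (_ : GrpObj Q) (q : G ⟶ Q), IsMonHom q ∧ Surjective q.left ∧ Flat q.left ∧
      LocallyOfFinitePresentation q.left ∧ IsSeparated Q.hom ∧ AlgGrp.IsKernel h q ∧ RedSub.IsQuotient h q := by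
  haveI : Mono h.left := inferInstance
  haveI : Mono h := Over.mono_of_mono_left h
  obtain ⟨Q, q, e, -, hq⟩ := exists_quot_of_isRepresentable h p sq hrep
  obtain ⟨grp, hqm, -⟩ := S5236.result h hN q hq
  have hsep : IsSeparated Q.hom := by
    haveI : MorphismProperty.RespectsIso (RepWith (S := S) @IsClosedImmersion) := inferInstance
    have h1 : RepWith @IsClosedImmersion (Limits.diag ((yon S).obj Q)) := by
      have : (Limits.diag ((yon S).obj Q)) = e.hom ≫ Limits.diag X ≫ prod.map e.inv e.inv := by
        apply Limits.prod.hom_ext <;> simp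
      rw [this]
      exact MorphismProperty.RespectsIso.precomp _ _ _ (MorphismProperty.RespectsIso.postcomp _ _ _ hs)
    exact ⟨(repWith_diag_yon_iff _ _).1 h1⟩
  refine ⟨Q, grp, q, hqm, hq.1, hq.2.1, hq.2.2.1, hsep, ?_, hq⟩
  have hleft : IsPullback (lift (toUnit N ≫ η[G]) (𝟙 N)) (toUnit N) (fst G N) η[G] :=
    ⟨⟨lift_fst _ _⟩, ⟨PullbackCone.IsLimit.mk _ (fun c => c.fst ≫ snd G N)
      (fun c => by
        apply CartesianMonoidalCategory.hom_ext
        · rw [Category.assoc, lift_fst, c.condition, ← Category.assoc, comp_toUnit,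
            toUnit_unique c.snd (toUnit _)]
        · rw [Category.assoc, lift_snd, Category.comp_id])
      (fun c => toUnit_unique _ _)
      (fun c m h₁ _ => by rw [← h₁, Category.assoc, lift_snd, Category.comp_id])⟩⟩
  have e' := hleft.paste_horiz hq.2.2.2.flip
  rw [comp_act, lift_fst, lift_snd_assoc, Category.id_comp, ← Hom.one_def, _root_.one_mul,
    IsMonHom.one_hom] at e'
  exact e'

/-- The quotient of a group scheme over a field by a closed normal subgroup. -/
theorem exists_quot_field {k : Type u} [Field k] {G N : Over (Spec (CommRingCat.of k))} [GrpObj G] [GrpObj N]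
    [LocallyOfFiniteType N.hom] (h : N ⟶ G) [IsMonHom h] [IsClosedImmersion h.left] (hN : AlgGrp.IsNormalHom h) :
    ∃ (Q : Over (Spec (CommRingCat.of k))) (_ : GrpObj Q) (q : G ⟶ Q), IsMonHom q ∧ Surjective q.left ∧
      Flat q.left ∧ LocallyOfFinitePresentation q.left ∧ IsSeparated Q.hom ∧ AlgGrp.IsKernel h q ∧
      RedSub.IsQuotient h q := by
  haveI : LocallyOfFinitePresentation N.hom := LocallyOfFinitePresentation.iff_locallyOfFiniteType.2 ‹_›
  obtain ⟨X, p, hp, hA, hs, sq⟩ := exists_space h
  obtain ⟨grp⟩ := exists_grpObj_sheaf h hN p sq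
  exact exists_group_of_isRepresentable h hN p hs sq
    (GrpScheme13.isRepresentable (Over.mk ((isTerminalYon _).from X)) hA hs)

end Groth.Agent.AlgSpGrp
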