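import Groth.Agent.AlgSpGrp.Artin
import Groth.Agent.GrpSchLib.KernelGrp
import Groth.Agent.AlgSpLib.Descends2
import Groth.Agent.S5237

/-!
# Factorisation of homomorphisms through the quotient by the kernel
-/

set_option autoImplicit false
set_option backward.isDefEq.respectTransparency false
set_option backward.isDefEq.respectTransparency.types false
set_option linter.style.haveILetI false

universe u

open CategoryTheory Limits AlgebraicGeometry MonoidalCategory CartesianMonoidalCategory MonObj GrpObj
open Groth.Agent.GrpSchLib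
open scoped MonObj

namespace Groth.Agent.AlgSpGrp

/-- The map induced on the quotient by the kernel is a monomorphism. -/
theorem mono_desc {S : Scheme.{u}} {N G Q H : Over S} [GrpObj N] [GrpObj G] [GrpObj Q] [GrpObj H] {i : N ⟶ G}
    {q : G ⟶ Q} [IsMonHom q] {u : G ⟶ H} {m : Q ⟶ H} [IsMonHom m] [Surjective q.left] [Flat q.left]
    [LocallyOfFinitePresentation q.left] (hm : q ≫ m = u) (hk : AlgGrp.IsKernel i u) (hi : i ≫ q = 1) : Mono m := by
  refine ⟨fun {T} a b hab => ?_⟩
  suffices key : ∀ c : T ⟶ Q, c ≫ m = 1 → c = 1 by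
    have := key (a * b⁻¹) (by rw [MonObj.mul_comp, GrpObj.inv_comp, hab, mul_inv_cancel])
    exact mul_inv_eq_one.1 this
  intro c hc
  let P : Over S := Over.mk (pullback.fst c.left q.left ≫ T.hom)
  let π : P ⟶ T := Over.homMk (pullback.fst c.left q.left) rfl
  let l : P ⟶ G := Over.homMk (pullback.snd c.left q.left) (by
    show pullback.snd _ _ ≫ G.hom = pullback.fst _ _ ≫ T.hom
    rw [← Over.w q, ← pullback.condition_assoc, Over.w c])
  have hl : l ≫ q = π ≫ c := Over.OverMorphism.ext pullback.condition.symm
  haveI : Surjective (pullback.fst c.left q.left) := MorphismProperty.pullback_fst _ _ ‹_›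
  haveI : Flat (pullback.fst c.left q.left) := MorphismProperty.pullback_fst _ _ ‹_›
  haveI : LocallyOfFinitePresentation (pullback.fst c.left q.left) := MorphismProperty.pullback_fst _ _ ‹_›
  haveI : Epi π := FpqcDescLib.Covers.over_epi (p := π)
    (FpqcDescLib.covers_of_isCovering (FpqcDescLib.isCovering_of_lfp (pullback.fst c.left q.left)))
  have h1 : l ≫ u = 1 := by rw [← hm, reassoc_of% hl, hc, MonObj.comp_one]
  have h2 := hk.lift_fst l (toUnit P) h1
  rw [← cancel_epi π, MonObj.comp_one, ← hl, ← h2, Category.assoc, hi, MonObj.comp_one]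

/-- A quasi-compact homomorphism with flat kernel over an artinian local ring is a faithfully flat homomorphism followed
by a closed immersion. -/
theorem exists_factor {A : Type u} [CommRing A] [IsArtinianRing A] [IsLocalRing A]
    {G H : Over (Spec (CommRingCat.of A))} [GrpObj G] [GrpObj H] [LocallyOfFiniteType G.hom]
    [LocallyOfFiniteType H.hom] (u : G ⟶ H) [IsMonHom u] [QuasiCompact u.left]
    (hN : Flat (pullback.snd u.left η[H].left)) :
    ∃ (C : Over (Spec (CommRingCat.of A))) (_ : GrpObj C) (p : G ⟶ C) (i : C ⟶ H), IsMonHom p ∧ IsMonHom i ∧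
      p ≫ i = u ∧ Flat p.left ∧ Surjective p.left ∧ LocallyOfFinitePresentation p.left ∧
      IsClosedImmersion i.left ∧ IsSeparated C.hom ∧ LocallyOfFiniteType C.hom := by
  haveI := RedImage.isSeparated_artinian H
  obtain ⟨N, _, j, _, _, hn, hk⟩ := GrpSchLib.exists_kernel u
  haveI : LocallyOfFiniteType N.hom := by rw [← Over.w j]; infer_instance
  haveI : Flat N.hom := by
    have sq : IsPullback j.left (toUnit N).left u.left η[H].left := IsPullback.map (Over.forget _) hk
    rw [← show (toUnit N).left = N.hom from rfl, ← sq.isoPullback_hom_snd]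
    infer_instance
  obtain ⟨C, iC, p, hp, hs, hf, hl, hsep, hkp, hq⟩ := exists_quot_artinian j hn
  haveI := hp; haveI := hs; haveI := hf; haveI := hl
  haveI : Mono j := Over.mono_of_mono_left j
  have hju : j ≫ u = 1 := hk.w
  obtain ⟨m, ⟨hm, hmh⟩, -⟩ := S5237.result j hn p hq u hju
  haveI := hmh
  haveI : Mono m := mono_desc hm hk hkp.w
  haveI : LocallyOfFinitePresentation G.hom := LocallyOfFinitePresentation.iff_locallyOfFiniteType.2 ‹_›
  haveI : LocallyOfFinitePresentation (p.left ≫ C.hom) := by rw [Over.w p]; infer_instance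
  haveI : LocallyOfFinitePresentation C.hom := SrcDescent.locallyOfFinitePresentation_of_fppf_comp p.left C.hom
  haveI : QuasiCompact (p.left ≫ m.left) := by rw [← Over.comp_left, hm]; infer_instance
  haveI : QuasiCompact m.left := AlgSpLib.quasiCompact_of_comp_surjective p.left m.left
  exact ⟨C, iC, p, m, hp, hmh, hm, hf, hs, hl, isClosedImmersion_of_mono m, hsep, inferInstance⟩

end Groth.Agent.AlgSpGrp
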