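import Groth.Agent.AlgSpGrp.Thick
import Groth.Agent.GrpSchLib.IdentityComp
import Groth.Agent.GrpSchLib.FieldDim
import Groth.Agent.AlgSpGrp.Artin

/-!
# Quotients of groups over a field by subgroups which need not be normal
-/

set_option autoImplicit false
set_option backward.isDefEq.respectTransparency false
set_option backward.isDefEq.respectTransparency.types false
set_option linter.style.haveILetI false

universe u

open CategoryTheory Limits AlgebraicGeometry MonoidalCategory CartesianMonoidalCategory MonObj GrpObj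
open AlgSp Groth.Agent.AlgSpLib Groth.Agent.AlgSpPts Groth.Agent.AlgSpDec Groth.Agent.AlgSpDec.FieldBC
open Groth.Agent.GrpSchLib.GenQuot
open scoped MonObj TensorProduct
open Order (coheight)

noncomputable section

namespace Groth.Agent.AlgSpGrp

/-- The quotient map is flat and surjective. -/
theorem repWith_quotMap {S : Scheme.{u}} {G N : Over S} [GrpObj G] [GrpObj N] (h : N ⟶ G) [IsMonHom h]
    [Flat N.hom] [LocallyOfFinitePresentation N.hom] {X : Sp S} (p : (yon S).obj G ⟶ X)
    [Sheaf.IsLocallySurjective p]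
    (sq : IsPullback ((yon S).map (act h)) ((yon S).map (fst G N)) p p) :
    RepWith @Flat p ∧ RepWith @Surjective p := by
  have := flat_fst (G := G) (N := N)
  have := lfp_fst (G := G) (N := N)
  have hr : Representable p := AlgSpDec.representable_of_kernelPair sq
  have := isLocalAtTarget_fppf (@Flat : MorphismProperty Scheme.{u})
  have := isLocalAtTarget_fppf (@Surjective : MorphismProperty Scheme.{u})
  have hss : Surjective (fst G N).left := ⟨fun x => by
    refine ⟨(lift (𝟙 G) 1 : G ⟶ G ⊗ N).left x, ?_⟩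
    rw [← Scheme.Hom.comp_apply, ← Over.comp_left, lift_fst]; rfl⟩
  exact ⟨repWith_of_locallySurjective hr p sq @Flat ((repWith_yon_map_iff _ _).2 ‹Flat (fst G N).left›),
    repWith_of_locallySurjective hr p sq @Surjective ((repWith_yon_map_iff _ _).2 hss)⟩

variable {k : Type u} [Field k] {G N : Over (FieldBC.base k)} [GrpObj G] [GrpObj N] (h : N ⟶ G) [IsMonHom h]
  {X : Sp (FieldBC.base k)} (p : (yon (FieldBC.base k)).obj G ⟶ X)

/-- The pairing into a product over the field. -/
abbrev prdLift {T U V : Over (FieldBC.base k)} (a : T ⟶ U) (b : T ⟶ V) : T ⟶ prd U V :=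
  Over.homMk (pullback.lift a.left b.left ((Over.w a).trans (Over.w b).symm)) (by
    show pullback.lift _ _ _ ≫ pullback.fst U.hom V.hom ≫ U.hom = T.hom
    rw [pullback.lift_fst_assoc]; exact Over.w a)

theorem prdLift_fst {T U V : Over (FieldBC.base k)} (a : T ⟶ U) (b : T ⟶ V) : prdLift a b ≫ prd₁ U V = a :=
  Over.OverMorphism.ext (pullback.lift_fst _ _ _)

theorem prdLift_snd {T U V : Over (FieldBC.base k)} (a : T ⟶ U) (b : T ⟶ V) : prdLift a b ≫ prd₂ U V = b :=
  Over.OverMorphism.ext (pullback.lift_snd _ _ _)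

theorem prd_hom_ext {T U V : Over (FieldBC.base k)} {a b : T ⟶ prd U V} (h₁ : a ≫ prd₁ U V = b ≫ prd₁ U V)
    (h₂ : a ≫ prd₂ U V = b ≫ prd₂ U V) : a = b :=
  Over.OverMorphism.ext (pullback.hom_ext (congrArg CommaMorphism.left h₁) (congrArg CommaMorphism.left h₂))

theorem isLocallySurjective_chart [Sheaf.IsLocallySurjective p] (V : Over (FieldBC.base k)) :
    Sheaf.IsLocallySurjective (chart p V) :=
  isLocallySurjective_of_isPullback (isPullback_chart p V) ‹_›

/-- Translation of points of the homogeneous space. -/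
theorem exists_transl [Sheaf.IsLocallySurjective p]
    (sq : IsPullback ((yon (FieldBC.base k)).map (act h)) ((yon (FieldBC.base k)).map (fst G N)) p p) {V : Over (FieldBC.base k)} (g : V ⟶ G) :
    ∃ e : X ⨯ (yon (FieldBC.base k)).obj V ≅ X ⨯ (yon (FieldBC.base k)).obj V,
      chart p V ≫ e.hom = (yon (FieldBC.base k)).map (prdLift ((prd₂ G V ≫ g) * prd₁ G V) (prd₂ G V)) ≫ chart p V := by
  haveI := isLocallySurjective_chart p V
  haveI := isRegularEpiCategory_sp (S := FieldBC.base k)
  haveI := IsRegularEpiCategory.regularEpiOfEpi (chart p V)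
  have hd : ∀ g : V ⟶ G, ∃ e : X ⨯ (yon (FieldBC.base k)).obj V ⟶ X ⨯ (yon (FieldBC.base k)).obj V,
      chart p V ≫ e = (yon (FieldBC.base k)).map (prdLift ((prd₂ G V ≫ g) * prd₁ G V) (prd₂ G V)) ≫ chart p V := by
    intro g
    refine ⟨EffectiveEpi.desc (chart p V) _ fun {W} α β e => hom_ext_of_points fun T x => ?_,
      EffectiveEpi.fac _ _ _⟩
    obtain ⟨a, ha⟩ := (yon (FieldBC.base k)).map_surjective (x ≫ α)
    obtain ⟨b, hb⟩ := (yon (FieldBC.base k)).map_surjective (x ≫ β)
    rw [← Category.assoc x α, ← Category.assoc x β, ← ha, ← hb]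
    have e' : (yon (FieldBC.base k)).map a ≫ chart p V = (yon (FieldBC.base k)).map b ≫ chart p V := by
      rw [ha, hb, Category.assoc, Category.assoc, e]
    have h₂ : a ≫ prd₂ G V = b ≫ prd₂ G V := (yon (FieldBC.base k)).map_injective (by
      have := e' =≫ prod.snd
      simpa only [Category.assoc, chart_snd, ← Functor.map_comp] using this)
    obtain ⟨n, hn⟩ := (comp_eq_iff h sq (a ≫ prd₁ G V) (b ≫ prd₁ G V)).1 (by
      have := e' =≫ prod.fst
      simpa only [Category.assoc, chart_fst, ← Functor.map_comp_assoc] using this)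
    apply Limits.prod.hom_ext
    · simp only [Category.assoc, chart_fst, ← Functor.map_comp_assoc, prdLift_fst]
      refine (comp_eq_iff h sq _ _).2 ⟨n, ?_⟩
      rw [MonObj.comp_mul, MonObj.comp_mul, hn, reassoc_of% h₂, _root_.mul_assoc]
    · simp only [Category.assoc, chart_snd, ← Functor.map_comp, prdLift_snd, h₂]
  obtain ⟨e, he⟩ := hd g
  obtain ⟨e', he'⟩ := hd g⁻¹
  refine ⟨⟨e, e', ?_, ?_⟩, he⟩
  · rw [← cancel_epi (chart p V), reassoc_of% he, he', ← Functor.map_comp_assoc, Category.comp_id]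
    refine (congrArg (fun m => (yon (FieldBC.base k)).map m ≫ chart p V) (?_ : _ = 𝟙 _)).trans (by simp)
    apply prd_hom_ext
    · rw [Category.assoc, prdLift_fst, MonObj.comp_mul, ← Category.assoc, prdLift_fst, prdLift_snd,
        GrpObj.comp_inv, inv_mul_cancel_left, Category.id_comp]
    · rw [Category.assoc, prdLift_snd, prdLift_snd, Category.id_comp]
  · rw [← cancel_epi (chart p V), reassoc_of% he', he, ← Functor.map_comp_assoc, Category.comp_id]
    refine (congrArg (fun m => (yon (FieldBC.base k)).map m ≫ chart p V) (?_ : _ = 𝟙 _)).trans (by simp)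
    apply prd_hom_ext
    · rw [Category.assoc, prdLift_fst, MonObj.comp_mul, ← Category.assoc, prdLift_fst, prdLift_snd,
        GrpObj.comp_inv, mul_inv_cancel_left, Category.id_comp]
    · rw [Category.assoc, prdLift_snd, prdLift_snd, Category.id_comp]

/-- A codimension zero point whose residue field is geometrically irreducible. -/
theorem exists_generic [LocallyOfFiniteType G.hom] :
    ∃ (G₀ : Over (FieldBC.base k)) (incl : G₀ ⟶ G) (η₀ : ↥G₀.left), Flat incl.left ∧ coheight η₀ = 0 ∧
      Subsingleton ↥(pullback (G₀.left.fromSpecResidueField η₀ ≫ G₀.hom) (sp k (AlgebraicClosure k)).hom) := by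
  obtain ⟨G₀, _, incl, _, -, hf, -, hgi, -⟩ := GrpSchLib.exists_identityComponent (G := G)
  obtain ⟨η₀, -, hη⟩ := GrpScheme13.exists_max_specializes (η[G₀].left (IsLocalRing.closedPoint k))
  refine ⟨G₀, incl, η₀, hf, hη, ⟨fun w₁ w₂ => ?_⟩⟩
  haveI := hgi
  let K := AlgebraicClosure k
  haveI : Subsingleton ↥(sp k K).left := inferInstanceAs (Subsingleton (PrimeSpectrum K))
  haveI : IrreducibleSpace ↥(pullback G₀.hom (sp k K).hom) :=
    GeometricallyIrreducible.geometrically_irreducibleSpace (f := G₀.hom) (sp k K).hom _ _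
      (IsPullback.of_hasPullback _ _)
  haveI : IsIntegralHom (pullback.fst G₀.hom (sp k K).hom) := MorphismProperty.pullback_fst _ _
    (IsIntegralHom.SpecMap_iff.2 (algebraMap_isIntegral_iff.2 inferInstance))
  let i : pullback (G₀.left.fromSpecResidueField η₀ ≫ G₀.hom) (sp k K).hom ⟶ pullback G₀.hom (sp k K).hom :=
    pullback.map _ _ _ _ (G₀.left.fromSpecResidueField η₀) (𝟙 _) (𝟙 _) (by simp) (by simp)
  haveI : Mono i := ⟨fun f g e => by
    apply pullback.hom_ext
    · rw [← cancel_mono (G₀.left.fromSpecResidueField η₀)]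
      simpa [i] using congrArg (fun z => z ≫ pullback.fst _ _) e
    · simpa [i] using congrArg (fun z => z ≫ pullback.snd _ _) e⟩
  have hfst : ∀ w, pullback.fst G₀.hom (sp k K).hom (i w) = η₀ := fun w => by
    rw [← Scheme.Hom.comp_apply, show i ≫ pullback.fst G₀.hom (sp k K).hom =
      pullback.fst (G₀.left.fromSpecResidueField η₀ ≫ G₀.hom) (sp k K).hom ≫ G₀.left.fromSpecResidueField η₀ from
        pullback.lift_fst _ _ _, Scheme.Hom.comp_apply]
    exact Scheme.fromSpecResidueField_apply _ _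
  apply FreeAction.injective_of_mono i
  have hgen : ∀ w, i w = genericPoint ↥(pullback G₀.hom (sp k K).hom) := fun w => by
    have hs := genericPoint_specializes (i w)
    refine (GrpSchLib.eq_of_specializes_of_isIntegralHom (pullback.fst G₀.hom (sp k K).hom) hs ?_).symm
    rw [hfst w]
    exact AlgSpDec.eq_of_specializes_of_coheight hη
      (hfst w ▸ hs.map (pullback.fst G₀.hom (sp k K).hom).continuous)
  rw [hgen w₁, hgen w₂]

variable [LocallyOfFiniteType G.hom]

/-- Every point of a separated homogeneous space over a field has a scheme neighbourhood. -/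
theorem exists_open_scheme_homog [Flat N.hom] [LocallyOfFinitePresentation N.hom] [Sheaf.IsLocallySurjective p]
    (hX : IsAlgSpace X) (hs : IsSeparatedSp X)
    (sq : IsPullback ((yon (FieldBC.base k)).map (act h)) ((yon (FieldBC.base k)).map (fst G N)) p p) (z : ↥G.left) :
    ∃ (T : Over (FieldBC.base k)) (i : (yon (FieldBC.base k)).obj T ⟶ X),
      RepWith @IsOpenImmersion i ∧ Points.ofPt p z ∈ Set.range (Points.map i) := by
  obtain ⟨hpf, -⟩ := repWith_quotMap h p sq
  obtain ⟨T, j, hj, h0⟩ := GrpScheme13.exists_scheme_codimZero hX hs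
  obtain ⟨G₀, incl, η₀, hfl, hη, hsub⟩ := exists_generic (G := G)
  haveI := hfl
  let F : Type u := ↥(G₀.left.residueField η₀)
  letI : Algebra k F := (Spec.preimage (G₀.left.fromSpecResidueField η₀ ≫ G₀.hom)).hom.toAlgebra
  have eF : Spec.map (CommRingCat.ofHom (algebraMap k F)) = G₀.left.fromSpecResidueField η₀ ≫ G₀.hom :=
    Spec.map_preimage _
  let g₀ : sp k F ⟶ G₀ := Over.homMk (G₀.left.fromSpecResidueField η₀) eF.symm
  let L : Type u := ↥(G.left.residueField z)
  letI : Algebra k L := (Spec.preimage (G.left.fromSpecResidueField z ≫ G.hom)).hom.toAlgebra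
  have eL : Spec.map (CommRingCat.ofHom (algebraMap k L)) = G.left.fromSpecResidueField z ≫ G.hom :=
    Spec.map_preimage _
  let l₀ : sp k L ⟶ G := Over.homMk (G.left.fromSpecResidueField z) eL.symm
  let x : (yon (FieldBC.base k)).obj (sp k L) ⟶ X := (yon (FieldBC.base k)).map l₀ ≫ p
  let pt : ↥(sp k L).left := IsLocalRing.closedPoint L
  haveI : Subsingleton ↥(pullback (G₀.left.fromSpecResidueField η₀ ≫ G₀.hom)
      (Spec.map (CommRingCat.ofHom (algebraMap k (AlgebraicClosure k))))) := hsub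
  haveI : Subsingleton (PrimeSpectrum (F ⊗[k] AlgebraicClosure k)) :=
    ((pullbackSpecIso k F (AlgebraicClosure k)).inv ≫
      (pullback.congrHom eF rfl).hom).homeomorph.injective.subsingleton
  haveI : Flat (sp k L).hom := MorLib.BF.flat_to_field (Field.toIsField k) _
  -- the translation `(a, l) ↦ a h` on the identity component
  let τ : prd G₀ (sp k L) ⟶ prd G (sp k L) :=
    prdLift (prd₁ G₀ (sp k L) ≫ incl) (prd₂ G₀ (sp k L))
  let σ : prd G (sp k L) ⟶ prd G (sp k L) :=
    prdLift (prd₁ G (sp k L) * (prd₂ G (sp k L) ≫ l₀)) (prd₂ G (sp k L))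
  haveI : IsIso σ := ⟨prdLift (prd₁ G (sp k L) * (prd₂ G (sp k L) ≫ l₀)⁻¹) (prd₂ G (sp k L)), by
    apply prd_hom_ext
    · rw [Category.assoc, prdLift_fst, MonObj.comp_mul, prdLift_fst, GrpObj.comp_inv, ← Category.assoc,
        prdLift_snd, mul_inv_cancel_right, Category.id_comp]
    · rw [Category.assoc, prdLift_snd, prdLift_snd, Category.id_comp], by
    apply prd_hom_ext
    · rw [Category.assoc, prdLift_fst, MonObj.comp_mul, prdLift_fst, ← Category.assoc, prdLift_snd,
        inv_mul_cancel_right, Category.id_comp]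
    · rw [Category.assoc, prdLift_snd, prdLift_snd, Category.id_comp]⟩
  haveI : IsIso σ.left := inferInstanceAs (IsIso ((Over.forget _).map σ))
  haveI : Flat τ.left := by
    have sqt : IsPullback (pullback.fst G₀.hom (sp k L).hom) τ.left incl.left (pullback.fst G.hom (sp k L).hom) :=
      IsPullback.of_bot (by
          have e₁ : τ.left ≫ pullback.snd G.hom (sp k L).hom = pullback.snd G₀.hom (sp k L).hom := pullback.lift_snd _ _ _
          rw [e₁, Over.w incl]
          exact IsPullback.of_hasPullback _ _)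
        (pullback.lift_fst _ _ _).symm (IsPullback.of_hasPullback G.hom (sp k L).hom)
    exact MorphismProperty.of_isPullback sqt hfl
  let c : prd G₀ (sp k L) ⟶ G := τ ≫ σ ≫ prd₁ G (sp k L)
  haveI : Flat (prd₁ G (sp k L)).left := MorphismProperty.pullback_fst _ _ ‹Flat (sp k L).hom›
  haveI : Flat c.left := inferInstanceAs (Flat (τ.left ≫ σ.left ≫ (prd₁ G (sp k L)).left))
  have hc : c = (prd₁ G₀ (sp k L) ≫ incl) * (prd₂ G₀ (sp k L) ≫ l₀) := by
    rw [show c = τ ≫ (σ ≫ prd₁ G (sp k L)) from rfl, prdLift_fst, MonObj.comp_mul, prdLift_fst,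
      ← Category.assoc, prdLift_snd]
  -- a maximal point above the generic point
  let i : prd (sp k F) (sp k L) ⟶ prd G₀ (sp k L) := prdLift (prd₁ _ _ ≫ g₀) (prd₂ _ _)
  have : Subsingleton ↥(FieldBC.base k) := inferInstanceAs (Subsingleton (PrimeSpectrum k))
  obtain ⟨y₀, hy₀, -⟩ := Scheme.Pullback.exists_preimage_pullback (f := G₀.hom) (g := (sp k L).hom) η₀ pt
    (Subsingleton.elim _ _)
  obtain ⟨ξ, hξs, hξ⟩ := GrpScheme13.exists_max_specializes (Y := (prd G₀ (sp k L)).left) y₀
  have hξ₀ : (prd₁ G₀ (sp k L)).left ξ = η₀ :=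
    AlgSpDec.eq_of_specializes_of_coheight hη (hy₀ ▸ hξs.map (prd₁ G₀ (sp k L)).left.continuous)
  obtain ⟨w, hwξ⟩ : ξ ∈ Set.range i.left := by
    have hr := Scheme.Pullback.range_map (sp k F).hom (sp k L).hom G₀.hom (sp k L).hom g₀.left
      (𝟙 (sp k L).left) (𝟙 (FieldBC.base k)) (by rw [Category.comp_id]; exact (Over.w g₀).symm)
      ((Category.comp_id _).trans (Category.id_comp _).symm)
    have hi : i.left = pullback.map (sp k F).hom (sp k L).hom G₀.hom (sp k L).hom g₀.left (𝟙 _) (𝟙 _)
        (by rw [Category.comp_id]; exact (Over.w g₀).symm) ((Category.comp_id _).trans (Category.id_comp _).symm) := by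
      apply pullback.hom_ext <;> simp [i]
    rw [hi]
    exact hr.ge ⟨⟨IsLocalRing.closedPoint F, (Scheme.fromSpecResidueField_apply _ _).trans hξ₀.symm⟩, _, rfl⟩
  -- its translate lies in the scheme locus
  obtain ⟨U, a, u, -, ha, hu⟩ := exists_affine_chart_at hX (Points.ofPt p (c.left ξ))
  obtain ⟨v', hv'⟩ : ∃ v' : ↥T.left, Points.ofPt j v' = Points.ofPt p (c.left ξ) := by
    let R := ha.rep.pullback p
    have sqR := ha.rep.isPullback' p
    obtain ⟨r, hr1, hr2⟩ := exists_ofPt_of_eq sqR hu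
    have he : Etale (ha.rep.snd p).left := ha.property_snd p
    have hr0 : coheight r = 0 := by
      rw [AlgSpPts.coheight_eq_of_etale (ha.rep.snd p).left r, hr2]
      exact GrpScheme13.coheight_eq_zero_of_flat _ hξ
    haveI : Flat (ha.rep.fst' p).left := (repWith_yon_map_iff _ _).1 (repWith_of_isPullback sqR.flip hpf)
    obtain ⟨v', hv', -⟩ := h0 U a u ha (hr1 ▸ GrpScheme13.coheight_eq_zero_of_flat _ hr0)
    exact ⟨v', hv'.trans hu⟩
  obtain ⟨V, hV, hvV, -⟩ := exists_isAffineOpen_mem_and_subset (U := (⊤ : T.left.Opens)) (x := v')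
    (TopologicalSpace.Opens.mem_top _)
  let Vo : Over (FieldBC.base k) := Over.mk (V.ι ≫ T.hom)
  let ιV : Vo ⟶ T := Over.homMk V.ι rfl
  haveI : IsAffine V.toScheme := hV
  haveI : IsAffine (sp k F).left := isAffine_Spec _
  haveI : IsAffine (prd Vo (sp k F)).left :=
    inferInstanceAs (IsAffine (pullback (V.ι ≫ T.hom) (Spec.map (CommRingCat.ofHom (algebraMap k F)))))
  let aV : (yon (FieldBC.base k)).obj Vo ⟶ X := (yon (FieldBC.base k)).map ιV ≫ j
  have haV : RepWith @IsOpenImmersion aV :=
    repWith_comp ((repWith_yon_map_iff _ ιV).2 (inferInstanceAs (IsOpenImmersion V.ι))) hj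
  obtain ⟨e, he⟩ := exists_transl h p sq (g₀ ≫ incl)
  let jW := chart aV (sp k F) ≫ e.inv
  have hjW : RepWith @IsOpenImmersion jW := repWith_comp (repWith_chart aV _ haV) (repWith_of_isIso _ _)
  let q : (yon (FieldBC.base k)).obj (prd (sp k F) (sp k L)) ⟶ X ⨯ (yon (FieldBC.base k)).obj (sp k F) :=
    (yon (FieldBC.base k)).map (prdLift (prd₂ (sp k F) (sp k L) ≫ l₀) (prd₁ (sp k F) (sp k L))) ≫ chart p (sp k F)
  have hqt : q ≫ e.hom ≫ prod.fst = (yon (FieldBC.base k)).map (i ≫ c) ≫ p := by
    simp only [q, Category.assoc, reassoc_of% he, chart_fst, ← Functor.map_comp_assoc, prdLift_fst]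
    refine congrArg (fun m => (yon (FieldBC.base k)).map m ≫ p) ?_
    rw [hc, MonObj.comp_mul, MonObj.comp_mul, reassoc_of% (prdLift_fst (prd₁ (sp k F) (sp k L) ≫ g₀) _),
      reassoc_of% (prdLift_snd (prd₁ (sp k F) (sp k L) ≫ g₀) _), prdLift_fst,
      reassoc_of% (prdLift_snd (prd₂ (sp k F) (sp k L) ≫ l₀) _)]
  obtain ⟨w', -, hw'⟩ := FieldBC.exists_lift aV (sp k F) (⟨v', hvV⟩ : ↥V)
    (Points.map e.hom (Points.ofPt q w)) (by
      rw [← Points.map_comp, Points.map_ofPt, hqt, ofPt_comp (i ≫ c), Over.comp_left, Scheme.Hom.comp_apply, hwξ,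
        ofPt_comp]
      exact hv')
  have hz : Points.ofPt q w ∈ Set.range (Points.map jW) := ⟨Points.ofScheme _ w', by
    rw [← Points.ofPt_eq_map_ofScheme, ← Points.map_ofPt (chart aV (sp k F)) e.inv, hw',
      ← Points.map_comp, Iso.hom_inv_id, Points.map_id]⟩
  obtain ⟨A, hA, W', J, hW', hJ, hzA⟩ := GrpScheme13.exists_spread_of_mem hX hs jW hjW hz
  haveI := hW'
  haveI : Algebra.FiniteType k A := (Subalgebra.fg_iff_finiteType A).1 hA
  obtain ⟨T', i', hi', hxT⟩ := GrpScheme13.exists_open_scheme_of_affine hX (AlgebraicClosure k)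
    (GrpScheme13.nilradical_prime_tensor (F := F) _ A) x pt J hJ hzA (by
      rw [← Points.map_comp, prod.map_fst, Category.comp_id, Points.map_ofPt]
      simp only [q, x, Category.assoc, chart_fst, ← Functor.map_comp_assoc, prdLift_fst]
      rw [ofPt_comp, ofPt_comp, Over.comp_left, Scheme.Hom.comp_apply]
      congr 2
      exact Subsingleton.elim (α := PrimeSpectrum L) _ _)
  refine ⟨T', i', hi', ?_⟩
  rwa [ofPt_comp, show l₀.left pt = z from Scheme.fromSpecResidueField_apply _ _] at hxT

/-- A separated homogeneous space over a field is a scheme. -/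
theorem isRepresentable_homog [Flat N.hom] [LocallyOfFinitePresentation N.hom] [Sheaf.IsLocallySurjective p]
    (hX : IsAlgSpace X) (hs : IsSeparatedSp X)
    (sq : IsPullback ((yon (FieldBC.base k)).map (act h)) ((yon (FieldBC.base k)).map (fst G N)) p p) :
    X.obj.IsRepresentable := by
  obtain ⟨X', j, hj, hX', hmax⟩ := Groth.Agent.S10197.result (⟨X, hX⟩ : Space (FieldBC.base k))
  have hsurj : Function.Surjective (Points.map j.hom) := by
    intro y
    obtain ⟨z, rfl⟩ := surjective_ofPt (repWith_quotMap h p sq).2 y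
    obtain ⟨T, i, hi, w, hw⟩ := exists_open_scheme_homog h p hX hs sq z
    obtain ⟨l, hl⟩ := hmax ⟨(yon (FieldBC.base k)).obj T, IsAlgSpace.yon_obj T⟩ (ObjectProperty.homMk i) hi
      (isRepresentable_of_iso (Iso.refl _))
    refine ⟨Points.map l.hom w, ?_⟩
    rw [← Points.map_comp, ← hw]
    exact congrArg (fun g => Points.map g w) (congrArg (fun g => g.hom) hl)
  haveI := isIso_of_openImm_surjective hX hj hsurj
  obtain ⟨T, ⟨r⟩⟩ := hX'.has_representation
  exact isRepresentable_of_iso (isoOfRepresentableBy r ≪≫ asIso j.hom)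

/-- A representable quotient by a closed subgroup is separated. -/
theorem exists_sep_quot {S : Scheme.{u}} {G N : Over S} [GrpObj G] [GrpObj N] (h : N ⟶ G) [IsMonHom h]
    [Flat N.hom] [LocallyOfFinitePresentation N.hom] {X : Sp S} (p : (yon S).obj G ⟶ X) [Sheaf.IsLocallySurjective p]
    (hs : IsSeparatedSp X) (sq : IsPullback ((yon S).map (act h)) ((yon S).map (fst G N)) p p)
    (hrep : X.obj.IsRepresentable) :
    ∃ (Q : Over S) (q : G ⟶ Q), RedSub.IsQuotient h q ∧ IsSeparated Q.hom := by
  obtain ⟨Q, q, e, -, hq⟩ := exists_quot_of_isRepresentable h p sq hrep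
  haveI : MorphismProperty.RespectsIso (RepWith (S := S) @IsClosedImmersion) := inferInstance
  have h1 : RepWith @IsClosedImmersion (Limits.diag ((yon S).obj Q)) := by
    have : (Limits.diag ((yon S).obj Q)) = e.hom ≫ Limits.diag X ≫ prod.map e.inv e.inv := by
      apply Limits.prod.hom_ext <;> simp
    rw [this]
    exact MorphismProperty.RespectsIso.precomp _ _ _ (MorphismProperty.RespectsIso.postcomp _ _ _ hs)
  exact ⟨Q, q, hq, ⟨(repWith_diag_yon_iff _ _).1 h1⟩⟩

/-- The quotient of a group over a field by a closed subgroup. -/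
theorem exists_homog_field {k : Type u} [Field k] {G N : Over (Spec (CommRingCat.of k))} [GrpObj G] [GrpObj N]
    [LocallyOfFiniteType G.hom] (h : N ⟶ G) [IsMonHom h] [IsClosedImmersion h.left] :
    ∃ (Q : Over (Spec (CommRingCat.of k))) (q : G ⟶ Q), RedSub.IsQuotient h q ∧ IsSeparated Q.hom := by
  haveI : LocallyOfFiniteType N.hom := by rw [← Over.w h]; infer_instance
  haveI : LocallyOfFinitePresentation N.hom := LocallyOfFinitePresentation.iff_locallyOfFiniteType.2 ‹_›
  haveI : Flat N.hom := MorLib.BF.flat_to_field (Field.toIsField k) _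
  obtain ⟨X, p, hp, hA, hs, sq⟩ := exists_space h
  exact exists_sep_quot h p hs sq (isRepresentable_homog h p hA hs sq)

/-- The quotient of a group over an artinian local ring by a flat closed subgroup. -/
theorem exists_homog_artinian {A : Type u} [CommRing A] [IsArtinianRing A] [IsLocalRing A]
    {F G : Over (Spec (CommRingCat.of A))} [GrpObj F] [GrpObj G] [LocallyOfFiniteType G.hom] [Flat F.hom]
    (u : F ⟶ G) [IsMonHom u] [IsClosedImmersion u.left] :
    ∃ (Q : Over (Spec (CommRingCat.of A))) (q : G ⟶ Q), RedSub.IsQuotient u q ∧ IsSeparated Q.hom := by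
  haveI : LocallyOfFiniteType F.hom := by rw [← Over.w u]; infer_instance
  haveI : LocallyOfFinitePresentation F.hom := LocallyOfFinitePresentation.iff_locallyOfFiniteType.2 ‹_›
  obtain ⟨X, p, hp, hX, hs, sq⟩ := exists_space u
  let i := GrpSchLib.clPt A
  haveI : LocallyOfFiniteType ((Over.pullback i).obj G).hom :=
    inferInstanceAs (LocallyOfFiniteType (pullback.snd G.hom i))
  haveI : IsClosedImmersion ((Over.pullback i).map u).left :=
    MorphismProperty.of_isPullback (P := @IsClosedImmersion) (Groth.Agent.GrpSchLib.HomFibre.map_isPullback u i) ‹_›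
  obtain ⟨Q₀, q₀, hq₀, -⟩ := exists_homog_field ((Over.pullback i).map u)
  exact exists_sep_quot u p hs sq (isRepresentable_of_thick u p hX sq i q₀ hq₀)

/-- Passing from the quotient by left cosets to the quotient by right cosets. -/
theorem isPullback_inv_comp {S : Scheme.{u}} {F G Q : Over S} [GrpObj F] [GrpObj G] (u : F ⟶ G) [IsMonHom u]
    [Mono u] {q : G ⟶ Q} (hq : RedSub.IsQuotient u q) :
    IsPullback ((u ▷ G) ≫ μ[G]) (snd F G) (ι[G] ≫ q) (ι[G] ≫ q) := by
  have hcomp : ∀ {T : Over S} (l : T ⟶ F ⊗ G), l ≫ (u ▷ G) ≫ μ[G] = (l ≫ fst F G ≫ u) * (l ≫ snd F G) := by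
    intro T l
    have h1 : l ≫ (u ▷ G) = lift (l ≫ fst F G ≫ u) (l ≫ snd F G) := by
      apply CartesianMonoidalCategory.hom_ext <;> simp
    rw [reassoc_of% h1, ← Hom.mul_def]
  have key : ∀ {T : Over S} (a b : T ⟶ G), a ≫ ι[G] ≫ q = b ≫ ι[G] ≫ q ↔ ∃ n : T ⟶ F, a = (n ≫ u) * b := by
    intro T a b
    rw [← Category.assoc, ← Category.assoc, comp_eq_iff_scheme u hq, ← Hom.inv_def, ← Hom.inv_def]
    constructor
    · rintro ⟨n, hn⟩
      refine ⟨n⁻¹, ?_⟩
      rw [GrpObj.inv_comp, ← _root_.inv_inv a, hn, _root_.mul_inv_rev, _root_.inv_inv]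
    · rintro ⟨n, hn⟩
      refine ⟨n⁻¹, ?_⟩
      rw [hn, GrpObj.inv_comp, _root_.mul_inv_rev]
  refine ⟨⟨?_⟩, ⟨PullbackCone.IsLimit.mk _ (fun c => lift ((key c.fst c.snd).1 c.condition).choose c.snd)
    (fun c => ?_) (fun c => lift_snd _ _) (fun c m h₁ h₂ => ?_)⟩⟩
  · refine (key _ _).2 ⟨fst F G, ?_⟩
    simpa using hcomp (𝟙 (F ⊗ G))
  · rw [hcomp, lift_fst_assoc, lift_snd]
    exact ((key c.fst c.snd).1 c.condition).choose_spec.symm
  · apply CartesianMonoidalCategory.hom_ext
    · rw [lift_fst, ← cancel_mono u]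
      rw [hcomp, h₂, ((key c.fst c.snd).1 c.condition).choose_spec] at h₁
      rw [Category.assoc]
      exact mul_right_cancel h₁
    · rw [lift_snd]; exact h₂

end Groth.Agent.AlgSpGrp
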