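import Groth.Agent.AlgSpGrp.Homog
import Groth.Agent.RedHomogTop.Dim
import Groth.Agent.RedHomogTop.Statements
import Groth.Agent.FibDim.BaseField
import Groth.Agent.MorLib.Thickening
import Groth.Agent.SecComp5.Fibre

/-!
# Actions, components and dimensions of homogeneous spaces
-/

set_option autoImplicit false
set_option backward.isDefEq.respectTransparency false
set_option backward.isDefEq.respectTransparency.types false
set_option linter.style.haveILetI false

universe u

open CategoryTheory Limits AlgebraicGeometry MonoidalCategory CartesianMonoidalCategory MonObj GrpObj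
open Groth.Agent.GrpSchLib Groth.Agent.GrpSchLib.GenQuot
open scoped MonObj Topology
open Topology (IsInducing)

noncomputable section

namespace Groth.Agent.AlgSpGrp

/-- Dimensions in a torsor: the total space has the dimension of the base plus that of the group. -/
theorem dim_add_of_isPullback {Y G Q N R : Scheme.{u}} [Subsingleton Y] (gQ : Q ⟶ Y) (gN : N ⟶ Y) (q : G ⟶ Q)
    (a f : R ⟶ G) (b : R ⟶ N) [LocallyOfFiniteType gQ] [LocallyOfFiniteType gN] [LocallyOfFiniteType q]
    [Surjective q] (sq₁ : IsPullback a f q q) (sq₂ : IsPullback b f gN (q ≫ gQ)) :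
    topologicalKrullDim G = topologicalKrullDim Q + topologicalKrullDim N := by
  haveI : LocallyOfFiniteType f := MorphismProperty.of_isPullback sq₁ ‹_›
  rw [FibDim.topologicalKrullDim_eq_iSup_rd (q ≫ gQ), FibDim.topologicalKrullDim_eq_iSup_rd gQ,
    FibDim.topologicalKrullDim_eq_iSup_rd gN]
  rcases isEmpty_or_nonempty G with hG | hG
  · haveI : IsEmpty Q := ⟨fun y => hG.elim (q.surjective y).choose⟩
    simp
  refine le_antisymm (iSup_le fun x => ?_) ?_
  · obtain ⟨r, -, -, hr⟩ := FibDim.exists_rd_baseChange_eq sq₁ x x rfl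
    rw [FibDim.rd_comp]
    push_cast
    refine add_le_add (le_iSup_of_le (q x) le_rfl) (le_iSup_of_le (b r) ?_)
    rw [← hr]
    exact_mod_cast FibDim.rd_baseChange_le sq₂ r
  · rcases isEmpty_or_nonempty N with hN | hN
    · simp
    haveI : Nonempty Q := hG.map q
    rw [← WithBot.coe_iSup (OrderTop.bddAbove _), ← WithBot.coe_iSup (OrderTop.bddAbove _),
      ← WithBot.coe_iSup (OrderTop.bddAbove _), ← WithBot.coe_add, WithBot.coe_le_coe]
    refine ENat.iSup_add_iSup_le fun y n => ?_
    obtain ⟨z, rfl⟩ := q.surjective y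
    obtain ⟨r, -, hrf, hr⟩ := FibDim.exists_rd_baseChange_eq sq₂ n z (Subsingleton.elim _ _)
    refine le_iSup_of_le (a r) ?_
    have h1 : q (a r) = q z := by
      rw [← Scheme.Hom.comp_apply, sq₁.w, Scheme.Hom.comp_apply, hrf]
    have h2 : FibDim.rd gN n ≤ FibDim.rd q (a r) := hr ▸ FibDim.rd_baseChange_le sq₁ r
    rw [FibDim.rd_comp, h1]
    exact_mod_cast Nat.add_le_add_left h2 _

variable {S : Scheme.{u}} {F G Q : Over S} [GrpObj F] [GrpObj G] (u : F ⟶ G) [IsMonHom u] {q : G ⟶ Q}

/-- The dimension of a homogeneous space over a one-point base. -/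
theorem dim_homog [Subsingleton S] [LocallyOfFiniteType F.hom] [LocallyOfFiniteType Q.hom]
    (hq : RedSub.IsQuotient u q) :
    topologicalKrullDim G.left = topologicalKrullDim Q.left + topologicalKrullDim F.left := by
  haveI : Surjective q.left := hq.1
  haveI : LocallyOfFinitePresentation q.left := hq.2.2.1
  refine dim_add_of_isPullback Q.hom F.hom q.left (act u).left (fst G F).left (snd G F).left
    (hq.2.2.2.flip.map (Over.forget S)) ?_
  rw [Over.w q]
  exact (IsPullback.of_hasPullback G.hom F.hom).flip

/-- The group acts on the quotient by left cosets with surjective graph. -/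
theorem exists_action (hq : RedSub.IsQuotient u q) :
    ∃ a : AlgGrp.Action G Q, Surjective (lift a.act (snd G Q)).left := by
  haveI : Surjective q.left := hq.1
  haveI : Flat q.left := hq.2.1
  haveI : LocallyOfFinitePresentation q.left := hq.2.2.1
  have cq : FpqcDescLib.Covers q.left :=
    FpqcDescLib.covers_of_isCovering (FpqcDescLib.isCovering_of_lfp q.left)
  have cl := FpqcDescLib.covers_whiskerLeft cq G
  obtain ⟨m, hm, -⟩ := cl.over_desc (μ[G] ≫ q) fun T a b e => by
    have h1 : a ≫ fst G G = b ≫ fst G G := by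
      have := e =≫ fst G Q
      simpa using this
    have h2 : (a ≫ snd G G) ≫ q = (b ≫ snd G G) ≫ q := by
      have := e =≫ snd G Q
      simpa using this
    obtain ⟨n, hn⟩ := (comp_eq_iff_scheme u hq _ _).1 h2
    have hμ : ∀ c : T ⟶ G ⊗ G, c ≫ μ[G] = (c ≫ fst G G) * (c ≫ snd G G) := fun c => by
      rw [Hom.mul_def, ← comp_lift, lift_fst_snd, Category.comp_id]
    rw [← Category.assoc, ← Category.assoc, hμ, hμ, comp_eq_iff_scheme u hq, h1, hn]
    exact ⟨n, (_root_.mul_assoc _ _ _).symm⟩
  haveI : Epi (G ◁ q) := cl.over_epi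
  haveI : Epi q := cq.over_epi
  refine ⟨⟨m, ?_, ?_⟩, ?_⟩
  · haveI : Epi (𝟙_ (Over S) ◁ q) := (FpqcDescLib.covers_whiskerLeft cq (𝟙_ (Over S))).over_epi
    rw [← cancel_epi (𝟙_ (Over S) ◁ q), whisker_exchange_assoc, hm, ← Category.assoc, MonObj.one_mul,
      leftUnitor_naturality]
  · haveI : Epi ((G ⊗ G) ◁ q) := (FpqcDescLib.covers_whiskerLeft cq (G ⊗ G)).over_epi
    rw [← cancel_epi ((G ⊗ G) ◁ q), whisker_exchange_assoc, hm, MonoidalCategory.associator_naturality_right_assoc,
      ← MonoidalCategory.whiskerLeft_comp_assoc, hm, MonoidalCategory.whiskerLeft_comp_assoc, hm,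
      MonObj.mul_assoc_assoc]
  · -- the graph is surjective as the shear of the group is bijective
    let s : G ⊗ G ⟶ G ⊗ G := lift μ[G] (snd G G)
    haveI : IsIso s := ⟨lift (fst G G * (snd G G)⁻¹) (snd G G), by
      apply CartesianMonoidalCategory.hom_ext
      · rw [Category.assoc, lift_fst, MonObj.comp_mul, GrpObj.comp_inv, lift_fst, lift_snd, MonObj.mul_eq_mul,
          mul_inv_cancel_right, Category.id_comp]
      · simp [s], by
      apply CartesianMonoidalCategory.hom_ext
      · rw [Category.assoc, lift_fst, MonObj.mul_eq_mul, MonObj.comp_mul, lift_fst, lift_snd, inv_mul_cancel_right,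
          Category.id_comp]
      · simp [s]⟩
    haveI : IsIso s.left := inferInstanceAs (IsIso ((Over.forget _).map s))
    haveI : Surjective (q ⊗ₘ q).left := by
      rw [Over.tensorHom_left]
      exact ⟨fun z => (Scheme.Pullback.range_map G.hom G.hom Q.hom Q.hom q.left q.left (𝟙 S) (by simp) (by simp)).ge
        ⟨q.left.surjective _, q.left.surjective _⟩⟩
    have e : (G ◁ q) ≫ lift m (snd G Q) = s ≫ (q ⊗ₘ q) := by
      apply CartesianMonoidalCategory.hom_ext
      · simp [s, hm]
      · simp [s]
    haveI : Surjective ((G ◁ q).left ≫ (lift m (snd G Q)).left) := by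
      rw [← Over.comp_left, e, Over.comp_left]; infer_instance
    exact Surjective.of_comp (G ◁ q).left _

end Groth.Agent.AlgSpGrp

namespace Groth.Agent.RedHomogTop

variable {k : Type u} [Field k] {G X : Over (Spec (CommRingCat.of k))} [GrpObj G] (a : AlgGrp.Action G X)

/-- Connected components of homogeneous spaces are quasi-compact. -/
theorem isCompact_connectedComponent (hΦ : Surjective (lift a.act (snd G X)).left)
    [IsLocallyNoetherian X.left] (x : X.left) : IsCompact (connectedComponent x) := by
  obtain ⟨g, hg, hge⟩ := GrpSchLib.exists_isMaxPt (η[G].left (IsLocalRing.closedPoint k))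
  obtain ⟨m, hm, hmx⟩ := GrpSchLib.exists_isMaxPt x
  have hC := connectedComponent_eq a hg hge hΦ hm hmx
  obtain ⟨U, hU, hmU, hUC⟩ := exists_isAffineOpen_mem_and_subset
    (U := (⟨connectedComponent x, haveI := SecComp5.locallyConnectedSpace X.left
      _root_.isOpen_connectedComponent⟩ : X.left.Opens)) (hC.ge (subset_closure rfl))
  have huniv : connectedComponent x = GrpSchLib.hull (U : Set X.left) := by
    refine Set.Subset.antisymm (fun y hy => ⟨m, hmU, specializes_iff_mem_closure.2 (hC ▸ hy)⟩) ?_
    rintro y ⟨d, hd, hdy⟩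
    exact hdy.mem_closed isClosed_connectedComponent (hUC hd)
  have hG : IsCompact (closure ({g} : Set G.left)) := isCompact_closure_one hg hge
  obtain ⟨T, j, hj, hjr⟩ := exists_over_range_eq (closure {g}) isClosed_closure
  have : CompactSpace T.left := isCompact_univ_iff.mp
    (j.left.isClosedEmbedding.isInducing.isCompact_iff.mpr (by rw [Set.image_univ, hjr]; exact hG))
  let j' : Over.mk (U.ι ≫ X.hom) ⟶ X := Over.homMk U.ι rfl
  have : IsAffine U.toScheme := hU
  have : IsAffineHom (U.ι ≫ X.hom) := isAffineHom_of_isAffine (U.ι ≫ X.hom)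
  have : QuasiCompact T.hom := (quasiCompact_iff_compactSpace T.hom).mpr inferInstance
  have : CompactSpace (T ⊗ Over.mk (U.ι ≫ X.hom)).left :=
    inferInstanceAs (CompactSpace ↥(pullback T.hom (U.ι ≫ X.hom)))
  rw [huniv, hull_eq_image a hg hge hΦ (V := (U : Set X.left)) U.2]
  have he : {z : (G ⊗ X).left | (fst G X).left z ∈ closure {g} ∧ (snd G X).left z ∈ (U : Set X.left)} =
      Set.range (j ⊗ₘ j').left := by
    have hj' : Set.range j'.left = (U : Set X.left) := Scheme.Opens.range_ι U
    rw [Over.tensorHom_left, ← hjr, ← hj']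
    exact (Scheme.Pullback.range_map _ _ _ _ _ _ _ _ _).symm
  rw [he]
  exact (isCompact_range (j ⊗ₘ j').left.continuous).image a.act.left.continuous

/-- A homogeneous space has the dimension of each of its connected components. -/
theorem dim_connectedComponent_eq_dim [LocallyOfFiniteType G.hom] [LocallyOfFiniteType X.hom]
    (hΦ : Surjective (lift a.act (snd G X)).left) (x : X.left) :
    topologicalKrullDim (connectedComponent x) = topologicalKrullDim X.left := by
  refine le_antisymm (IsInducing.subtypeVal.topologicalKrullDim_le) ?_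
  rw [VarDim.topologicalKrullDim_eq_iSup_deg X.hom]
  refine iSup_le fun y => ?_
  rw [dim_connectedComponent_eq a hΦ x y, VarDim.topologicalKrullDim_set_eq_iSup_deg X.hom isClosed_connectedComponent]
  exact le_iSup_of_le ⟨y, mem_connectedComponent⟩ le_rfl

end Groth.Agent.RedHomogTop
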