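import Groth.Agent.AlgSpGrp.QuotGrp
import Groth.Agent.AlgSpLib.Sheaf
import Groth.Agent.AlgSpPts.Descent
import Groth.Agent.AlgSpDec.QuotRep
import Groth.Agent.GrpSchLib.GenQuot
import Groth.Prelude.Def_AlgSpGpd
import Mathlib.CategoryTheory.Sites.RegularEpi

/-!
# Quotients of group schemes by normal subgroups as group sheaves
-/

set_option autoImplicit false
set_option backward.isDefEq.respectTransparency false
set_option backward.isDefEq.respectTransparency.types false

universe u

open CategoryTheory Limits AlgebraicGeometry MonoidalCategory CartesianMonoidalCategory AlgSp Groth.Agent.AlgSpLib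
  Groth.Agent.AlgSpPts

noncomputable section

namespace Groth.Agent.AlgSpGrp

variable {S : Scheme.{u}}

/-- Locally surjective maps of sheaves over a sheaf. -/
def ls (B : Sp S) : MorphismProperty (Over B) := fun _ _ f => Sheaf.IsLocallySurjective f.left

theorem isLocallySurjective_of_isPullback {P X Y Z : Sp S} {a : P ⟶ X} {b : P ⟶ Y} {f : X ⟶ Z} {g : Y ⟶ Z}
    (sq : IsPullback a b f g) (hf : Sheaf.IsLocallySurjective f) : Sheaf.IsLocallySurjective b :=
  isLocallySurjective_of_lifts b fun T y => by
    obtain ⟨T', φ, x, hφ, hx⟩ := AlgSpDec.exists_fppf_lift_of_locallySurjective f (y ≫ g)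
    exact ⟨T', φ, sq.lift x ((yon S).map φ ≫ y) (by rw [hx, Category.assoc]), hφ, sq.lift_snd _ _ _⟩

theorem isRegularEpiCategory_sp : IsRegularEpiCategory (Sp S) :=
  isRegularEpiCategory_sheaf _ fun f _ =>
    ⟨image f.hom, factorThruImage f.hom, image.ι f.hom, inferInstance, inferInstance, by simp⟩

theorem good_ls (B : Sp S) : Good (ls B) where
  stable sq h := isLocallySurjective_of_isPullback (sq.map (Over.forget B)) h
  desc {X Y} p hp {Z} f hf := by
    haveI : Sheaf.IsLocallySurjective p.left := hp
    haveI := isRegularEpiCategory_sp (S := S)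
    haveI := IsRegularEpiCategory.regularEpiOfEpi p.left
    haveI : EffectiveEpi p.left := inferInstance
    let g := EffectiveEpi.desc p.left f.left fun {W} a b e => by
      let T : Over B := Over.mk (a ≫ X.hom)
      let a' : T ⟶ X := Over.homMk a rfl
      let b' : T ⟶ X := Over.homMk b (by
        show b ≫ X.hom = a ≫ X.hom
        rw [← Over.w p, reassoc_of% e])
      exact congrArg CommaMorphism.left (hf T a' b' (Over.OverMorphism.ext e))
    have hg : p.left ≫ g = f.left := EffectiveEpi.fac _ _ _
    refine ⟨Over.homMk g ?_, Over.OverMorphism.ext hg, fun h hh => ?_⟩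
    · rw [← cancel_epi p.left, reassoc_of% hg, Over.w f, Over.w p]
    · refine Over.OverMorphism.ext ((cancel_epi p.left).1 ?_)
      show p.left ≫ h.left = p.left ≫ g
      rw [hg, ← hh, Over.comp_left]

variable (S) in
/-- The base as a sheaf. -/
abbrev base : Sp S := (yon S).obj (Over.mk (𝟙 S))

variable (S) in
/-- Schemes as sheaves over the base. -/
abbrev yonB : Over S ⥤ Over (base S) := yon S ⋙ (Over.equivalenceOfIsTerminal (isTerminalYon S)).inverse

instance : PreservesFiniteProducts (yonB S) := by
  haveI : PreservesFiniteProducts (yon S) := ⟨fun _ => inferInstance⟩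
  exact ⟨fun _ => inferInstance⟩

instance monoidalYonB : (yonB S).Monoidal := .ofChosenFiniteProducts _

open MonObj in
/-- The quotient sheaf of a group scheme by a normal subgroup is a group object over the base. -/
theorem exists_grpObj_sheaf {G N : Over S} [GrpObj G] [GrpObj N] (h : N ⟶ G) [IsMonHom h] (hn : AlgGrp.IsNormalHom h)
    {X : Sp S} (p : (yon S).obj G ⟶ X) [Sheaf.IsLocallySurjective p]
    (sq : IsPullback ((yon S).map (GrpSchLib.GenQuot.act h)) ((yon S).map (fst G N)) p p) :
    Nonempty (GrpObj (Over.mk ((isTerminalYon S).from X) : Over (base S))) := by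
  let F := yonB S
  letI : GrpObj (F.obj G) := Functor.grpObjObj
  letI : GrpObj (F.obj N) := Functor.grpObjObj
  let Q : Over (base S) := Over.mk ((isTerminalYon S).from X)
  let p' : F.obj G ⟶ Q := Over.homMk p ((isTerminalYon S).hom_ext _ _)
  have hp : ls (base S) p' := ‹Sheaf.IsLocallySurjective p›
  have sq' : IsPullback (F.map (GrpSchLib.GenQuot.act h)) (F.map (fst G N)) p' p' :=
    IsPullback.of_map (Over.forget _) (Over.OverMorphism.ext sq.w) sq
  have hact : GrpSchLib.GenQuot.act h = fst G N * (snd G N ≫ h) := by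
    simpa using GrpSchLib.GenQuot.comp_act (h := h) (𝟙 (G ⊗ N))
  have hc : IsCosetMap (F.map h) p' := fun T a b => by
    constructor
    · intro e
      obtain ⟨l, hl, hl'⟩ : ∃ l, l ≫ F.map (GrpSchLib.GenQuot.act h) = b ∧ l ≫ F.map (fst G N) = a :=
        ⟨sq'.lift b a e.symm, sq'.lift_fst _ _ _, sq'.lift_snd _ _ _⟩
      refine ⟨l ≫ F.map (snd G N), ?_⟩
      rw [hact, Functor.map_mul, MonObj.comp_mul, hl', Functor.map_comp] at hl
      rw [Category.assoc, hl]
    · rintro ⟨n, rfl⟩
      let l : T ⟶ F.obj (G ⊗ N) := lift a n ≫ Functor.LaxMonoidal.μ F G N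
      have h1 : l ≫ F.map (fst G N) = a := by simp [l]
      have h2 : l ≫ F.map (snd G N) = n := by simp [l]
      have h3 : l ≫ F.map (GrpSchLib.GenQuot.act h) = a * (n ≫ F.map h) := by
        rw [hact, Functor.map_mul, MonObj.comp_mul, h1, Functor.map_comp, ← Category.assoc, h2]
      rw [← h3, Category.assoc, sq'.w, ← Category.assoc, h1]
  have hnorm : IsNormal (F.map h) := fun T g n => by
    obtain ⟨n', hn'⟩ := hn (G ⊗ N) (fst G N) (snd G N)
    let l : T ⟶ F.obj (G ⊗ N) := lift g n ≫ Functor.LaxMonoidal.μ F G N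
    have h1 : l ≫ F.map (fst G N) = g := by simp [l]
    have h2 : l ≫ F.map (snd G N) = n := by simp [l]
    refine ⟨l ≫ F.map n', ?_⟩
    have e := congrArg (fun m => l ≫ F.map m) hn'
    rw [Functor.map_mul, Functor.map_mul, Functor.map_inv', MonObj.comp_mul, MonObj.comp_mul, GrpObj.comp_inv,
      Functor.map_comp, Functor.map_comp, ← Category.assoc, h2, h1, ← Category.assoc] at e
    exact e
  obtain ⟨s, -⟩ := AlgSpGrp.exists_grpObj (good_ls (base S)) hp hc hnorm
  exact ⟨s⟩

end Groth.Agent.AlgSpGrp
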