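import Groth.Agent.AlgSpGrp.Quot
import Groth.Agent.AlgSpLib.Rep
import Groth.Agent.DSPtsLib.Basic
import Groth.Agent.S10584

/-!
# Representability of quotients along thickenings of the base
-/

set_option autoImplicit false
set_option backward.isDefEq.respectTransparency false
set_option backward.isDefEq.respectTransparency.types false
set_option linter.style.haveILetI false

universe u

open CategoryTheory Limits AlgebraicGeometry MonoidalCategory CartesianMonoidalCategory MonObj GrpObj
open AlgSp Groth.Agent.AlgSpLib Groth.Agent.AlgSpPts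
open Groth.Agent.GrpSchLib.GenQuot
open scoped MonObj

namespace Groth.Agent.AlgSpGrp

variable {S : Scheme.{u}}

/-- Maps of sheaves agree if they agree on all points with values in schemes. -/
theorem hom_ext_of_points {F F' : Sp S} {f g : F ⟶ F'}
    (h : ∀ (T : Over S) (x : (yon S).obj T ⟶ F), x ≫ f = x ≫ g) : f = g := by
  ext T s
  have e := congrArg (fun m => (J S).uliftYonedaEquiv m) (h T.unop ((J S).uliftYonedaEquiv.symm s))
  simp only [GrothendieckTopology.uliftYonedaEquiv_comp, Equiv.apply_symm_apply] at e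
  exact e

variable {G N : Over S} [GrpObj G] [GrpObj N] (h : N ⟶ G) [IsMonHom h]

/-- Two points have the same class in a quotient if and only if they differ by a point of the subgroup. -/
theorem comp_eq_iff {X : Sp S} {p : (yon S).obj G ⟶ X}
    (sq : IsPullback ((yon S).map (act h)) ((yon S).map (fst G N)) p p) {T : Over S} (a b : T ⟶ G) :
    (yon S).map a ≫ p = (yon S).map b ≫ p ↔ ∃ n : T ⟶ N, a = b * (n ≫ h) := by
  constructor
  · intro e
    obtain ⟨l, hl⟩ := (yon S).map_surjective (sq.lift _ _ e)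
    have h1 : l ≫ act h = a := (yon S).map_injective (by rw [Functor.map_comp, hl, sq.lift_fst])
    have h2 : l ≫ fst G N = b := (yon S).map_injective (by rw [Functor.map_comp, hl, sq.lift_snd])
    refine ⟨l ≫ snd G N, ?_⟩
    rw [comp_act, h2] at h1
    rw [Category.assoc, h1]
  · rintro ⟨n, rfl⟩
    have h1 : lift b n ≫ act h = b * (n ≫ h) := by rw [comp_act, lift_fst, lift_snd_assoc]
    rw [← h1, Functor.map_comp, Category.assoc, sq.w, ← Category.assoc, ← Functor.map_comp, lift_fst]

/-- A quotient of schemes in the yoneda image. -/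
theorem comp_eq_iff_scheme {Q : Over S} {q : G ⟶ Q} (hq : RedSub.IsQuotient h q) {T : Over S} (a b : T ⟶ G) :
    a ≫ q = b ≫ q ↔ ∃ n : T ⟶ N, a = b * (n ≫ h) := by
  have sq := hq.2.2.2.flip
  constructor
  · intro e
    refine ⟨sq.lift a b e ≫ snd G N, ?_⟩
    have h1 : sq.lift a b e ≫ act h = a := sq.lift_fst _ _ _
    rw [comp_act, sq.lift_snd] at h1
    rw [Category.assoc, h1]
  · rintro ⟨n, rfl⟩
    have h1 : lift b n ≫ act h = b * (n ≫ h) := by rw [comp_act, lift_fst, lift_snd_assoc]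
    rw [← h1, Category.assoc, sq.w, ← Category.assoc, lift_fst]

/-- The quotient sheaf is representable if the quotient over a thickened base is. -/
theorem isRepresentable_of_thick [Flat N.hom] [LocallyOfFinitePresentation N.hom] {X : Sp S}
    (p : (yon S).obj G ⟶ X) [Sheaf.IsLocallySurjective p] (hA : IsAlgSpace X)
    (sq : IsPullback ((yon S).map (act h)) ((yon S).map (fst G N)) p p) {S₀ : Scheme.{u}} (i : S₀ ⟶ S)
    [IsClosedImmersion i] [Surjective i] {Q₀ : Over S₀} (q₀ : Red.bc i G ⟶ Q₀)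
    (hq₀ : RedSub.IsQuotient ((Over.pullback i).map h) q₀) : X.obj.IsRepresentable := by
  let O : Over S := Over.mk i
  let G₁ : Over S := (Over.map i).obj (Red.bc i G)
  let Q₁ : Over S := (Over.map i).obj Q₀
  let q₁ : G₁ ⟶ Q₁ := (Over.map i).map q₀
  let πG : G₁ ⟶ G := DSPtsLib.theta i (𝟙 (Red.bc i G))
  let oG : G₁ ⟶ O := Over.homMk (Red.bc i G).hom rfl
  let p₁ : (yon S).obj G₁ ⟶ X ⨯ (yon S).obj O := prod.lift ((yon S).map πG ≫ p) ((yon S).map oG)
  haveI : Mono O.hom := inferInstanceAs (Mono i)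
  have hO : ∀ {T : Over S} (x y : T ⟶ O), x = y := fun x y =>
    Over.OverMorphism.ext ((cancel_mono i).1 ((Over.w x).trans (Over.w y).symm))
  -- the two maps out of `G₁` identify the same points
  have key : ∀ {T : Over S} (a b : T ⟶ G₁),
      a ≫ q₁ = b ≫ q₁ ↔ (yon S).map a ≫ p₁ = (yon S).map b ≫ p₁ := by
    intro T a b
    have hab : b.left ≫ (Red.bc i G).hom = a.left ≫ (Red.bc i G).hom :=
      congrArg CommaMorphism.left (hO (b ≫ oG) (a ≫ oG))
    let T' : Over S₀ := Over.mk (a.left ≫ (Red.bc i G).hom)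
    let a' : T' ⟶ Red.bc i G := Over.homMk a.left rfl
    let b' : T' ⟶ Red.bc i G := Over.homMk b.left hab
    let j : T ⟶ (Over.map i).obj T' := Over.homMk (𝟙 _) (by
      show 𝟙 _ ≫ (a.left ≫ (Red.bc i G).hom) ≫ i = T.hom
      rw [Category.id_comp, Category.assoc]
      exact Over.w a)
    let j' : (Over.map i).obj T' ⟶ T := Over.homMk (𝟙 _) (by
      show 𝟙 _ ≫ T.hom = (a.left ≫ (Red.bc i G).hom) ≫ i
      rw [Category.id_comp, Category.assoc]
      exact (Over.w a).symm)
    have hj : j ≫ j' = 𝟙 T := Over.OverMorphism.ext (Category.id_comp _)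
    have ha : a ≫ πG = j ≫ DSPtsLib.theta i a' := Over.OverMorphism.ext (by
      show a.left ≫ 𝟙 _ ≫ pullback.fst _ _ = 𝟙 _ ≫ a.left ≫ pullback.fst _ _
      simp)
    have hb : b ≫ πG = j ≫ DSPtsLib.theta i b' := Over.OverMorphism.ext (by
      show b.left ≫ 𝟙 _ ≫ pullback.fst _ _ = 𝟙 _ ≫ b.left ≫ pullback.fst _ _
      simp)
    have h1 : a ≫ q₁ = b ≫ q₁ ↔ a' ≫ q₀ = b' ≫ q₀ :=
      ⟨fun e => Over.OverMorphism.ext (congrArg CommaMorphism.left e :),
        fun e => Over.OverMorphism.ext (congrArg CommaMorphism.left e :)⟩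
    have h2 : (yon S).map a ≫ p₁ = (yon S).map b ≫ p₁ ↔
        (yon S).map (a ≫ πG) ≫ p = (yon S).map (b ≫ πG) ≫ p := by
      constructor
      · intro e
        simpa [p₁] using congrArg (· ≫ prod.fst) e
      · intro e
        apply Limits.prod.hom_ext
        · simpa [p₁] using e
        · simp only [p₁, Category.assoc, prod.lift_snd, ← Functor.map_comp, hO (a ≫ oG) (b ≫ oG)]
    rw [h1, h2, comp_eq_iff h sq, comp_eq_iff_scheme _ hq₀, ha, hb]
    constructor
    · rintro ⟨n, hn⟩
      refine ⟨j ≫ DSPtsLib.theta i n, ?_⟩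
      have e : DSPtsLib.theta i (n ≫ (Over.pullback i).map h) = DSPtsLib.theta i n ≫ h :=
        (Over.mapPullbackAdj i).homEquiv_naturality_right_symm n h
      rw [hn, DSPtsLib.theta_mul, MonObj.comp_mul, e, Category.assoc]
    · rintro ⟨n, hn⟩
      obtain ⟨n', hn'⟩ := (DSPtsLib.theta_bijective i (Y := T') (H := N)).2 (j' ≫ n)
      refine ⟨n', (DSPtsLib.theta_bijective i).1 ?_⟩
      have e : DSPtsLib.theta i (n' ≫ (Over.pullback i).map h) = DSPtsLib.theta i n' ≫ h :=
        (Over.mapPullbackAdj i).homEquiv_naturality_right_symm n' h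
      have hj' : j' ≫ j = 𝟙 _ := Over.OverMorphism.ext (Category.id_comp _)
      have := congrArg (j' ≫ ·) hn
      rw [MonObj.comp_mul, reassoc_of% hj', reassoc_of% hj'] at this
      rw [DSPtsLib.theta_mul, e, hn', this, Category.assoc]
  -- both maps are locally surjective
  haveI hp₁ : Sheaf.IsLocallySurjective p₁ := isLocallySurjective_of_lifts p₁ fun T x => by
    obtain ⟨T', φ, y, hφ, hy⟩ := AlgSpDec.exists_fppf_lift_of_locallySurjective p (x ≫ prod.fst)
    obtain ⟨y, rfl⟩ := (yon S).map_surjective y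
    obtain ⟨o, ho⟩ := (yon S).map_surjective (x ≫ prod.snd)
    obtain ⟨z, hz⟩ := (DSPtsLib.theta_bijective i (Y := Over.mk (φ.left ≫ o.left)) (H := G)).2
      (Over.homMk y.left (by
        show y.left ≫ G.hom = (φ.left ≫ o.left) ≫ i
        rw [Over.w y, Category.assoc]
        exact (Over.w φ).symm.trans (congrArg (φ.left ≫ ·) (Over.w o).symm)))
    let l : T' ⟶ G₁ := Over.homMk z.left (by
      show z.left ≫ (Red.bc i G).hom ≫ i = T'.hom
      rw [← Category.assoc, Over.w z]
      exact (Category.assoc _ _ _).trans ((congrArg (φ.left ≫ ·) (Over.w o)).trans (Over.w φ)))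
    have hl : l ≫ πG = y := Over.OverMorphism.ext (by
      show z.left ≫ 𝟙 _ ≫ pullback.fst _ _ = y.left
      rw [Category.id_comp]
      exact congrArg CommaMorphism.left hz)
    refine ⟨T', φ, (yon S).map l, hφ, ?_⟩
    apply Limits.prod.hom_ext
    · rw [Category.assoc, prod.lift_fst, ← Functor.map_comp_assoc, hl, hy, Category.assoc]
    · rw [Category.assoc, prod.lift_snd, ← Functor.map_comp, Category.assoc, ← ho, ← Functor.map_comp,
        hO (l ≫ oG) (φ ≫ o)]
  haveI : Surjective q₀.left := hq₀.1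
  haveI : Flat q₀.left := hq₀.2.1
  haveI : LocallyOfFinitePresentation q₀.left := hq₀.2.2.1
  have hq₁' : RepWith fppf ((yon S).map q₁) := (repWith_yon_map_iff _ _).2 (fppf_of q₀.left)
  haveI hq₁ : Sheaf.IsLocallySurjective ((yon S).map q₁) := isLocallySurjective_of_repWith hq₁'
  haveI := isRegularEpiCategory_sp (S := S)
  haveI := IsRegularEpiCategory.regularEpiOfEpi ((yon S).map q₁)
  haveI := IsRegularEpiCategory.regularEpiOfEpi p₁
  let φ := EffectiveEpi.desc ((yon S).map q₁) p₁ fun {W} α β e => hom_ext_of_points fun T x => by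
    obtain ⟨a, ha⟩ := (yon S).map_surjective (x ≫ α)
    obtain ⟨b, hb⟩ := (yon S).map_surjective (x ≫ β)
    rw [← Category.assoc, ← Category.assoc, ← ha, ← hb]
    refine (key a b).1 ((yon S).map_injective ?_)
    rw [Functor.map_comp, Functor.map_comp, ha, hb, Category.assoc, Category.assoc, e]
  let ψ := EffectiveEpi.desc p₁ ((yon S).map q₁) fun {W} α β e => hom_ext_of_points fun T x => by
    obtain ⟨a, ha⟩ := (yon S).map_surjective (x ≫ α)
    obtain ⟨b, hb⟩ := (yon S).map_surjective (x ≫ β)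
    rw [← Category.assoc, ← Category.assoc, ← ha, ← hb, ← Functor.map_comp, ← Functor.map_comp]
    refine congrArg (yon S).map ((key a b).2 ?_)
    rw [ha, hb, Category.assoc, Category.assoc, e]
  have h1 : (yon S).map q₁ ≫ φ = p₁ := EffectiveEpi.fac _ _ _
  have h2 : p₁ ≫ ψ = (yon S).map q₁ := EffectiveEpi.fac _ _ _
  let e₁ : (yon S).obj Q₁ ≅ X ⨯ (yon S).obj O :=
    { hom := φ
      inv := ψ
      hom_inv_id := by rw [← cancel_epi ((yon S).map q₁), reassoc_of% h1, h2, Category.comp_id]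
      inv_hom_id := by rw [← cancel_epi p₁, reassoc_of% h2, h1, Category.comp_id] }
  have hO' : RepWith thick ((yon S).map (Over.homMk i (Category.comp_id _) : O ⟶ Over.mk (𝟙 S))) :=
    (repWith_yon_map_iff _ _).2 ⟨‹_›, ‹_›⟩
  have hi : IsThickMor (prod.fst : X ⨯ (yon S).obj O ⟶ X) := by
    refine repWith_of_isPullback
      (f := (yon S).map (Over.homMk i (Category.comp_id _) : O ⟶ Over.mk (𝟙 S)))
      (IsPullback.of_isLimit' ⟨(isTerminalYon S).hom_ext _ _⟩ ?_ :
        IsPullback (prod.snd : X ⨯ (yon S).obj O ⟶ _) (prod.fst : X ⨯ (yon S).obj O ⟶ X)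
          ((yon S).map (Over.homMk i (Category.comp_id _) : O ⟶ Over.mk (𝟙 S))) ((isTerminalYon S).from X)) hO'
    exact PullbackCone.IsLimit.mk _ (fun c => prod.lift c.snd c.fst) (fun c => prod.lift_snd _ _)
      (fun c => prod.lift_fst _ _) (fun c m m₁ m₂ => Limits.prod.hom_ext (by simpa using m₂) (by simpa using m₁))
  have hA₀ : IsAlgSpace (X ⨯ (yon S).obj O) := (IsAlgSpace.yon_obj Q₁).of_iso e₁
  obtain ⟨T', ⟨e⟩⟩ := S10584.result (X := ⟨_, hA₀⟩) (X' := ⟨X, hA⟩) ⟨(prod.fst : X ⨯ (yon S).obj O ⟶ X)⟩ hi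
    ⟨Q₁, ⟨e₁⟩⟩
  exact (representableByOfIso e).isRepresentable

end Groth.Agent.AlgSpGrp
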